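import Groth.Agent.LC.PuncturedConn
import Groth.Agent.FlatLoc6.EquidimCat
import Groth.Agent.FlatLoc6.SerreNormal

/-!
# Connectedness in codimension `d - 1`
-/

universe u

open IsLocalRing

namespace Groth.Agent.GrLib8.Hartshorne

variable {A : Type u} [CommRing A] [IsNoetherianRing A]

/-- The linking relation. -/
def Link (A : Type u) [CommRing A] (d : ℕ) (p q : PrimeSpectrum A) : Prop :=
  ∃ r : PrimeSpectrum A, p ≤ r ∧ q ≤ r ∧ r.asIdeal.height ≤ (d - 1 : ℕ)

theorem exists_chain [ConnectedSpace (PrimeSpectrum A)] (d : ℕ) (hd : 1 ≤ d)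
    (h : ∀ p : PrimeSpectrum A, (d : ℕ∞) ≤ p.asIdeal.height →
      (2 : ℕ∞) ≤ LocCoh.depth (Localization.AtPrime p.asIdeal) (Localization.AtPrime p.asIdeal))
    (p' p'' : PrimeSpectrum A) (hp' : p'.asIdeal ∈ minimalPrimes A) (hp'' : p''.asIdeal ∈ minimalPrimes A) :
    Relation.ReflTransGen (fun p q => q.asIdeal ∈ minimalPrimes A ∧ Link A d p q) p' p'' := by
  classical
  let Rel := fun p q : PrimeSpectrum A => q.asIdeal ∈ minimalPrimes A ∧ Link A d p q
  let M := (minimalPrimes.finite_of_isNoetherianRing A).toFinset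
  have hM : ∀ {I}, I ∈ M ↔ I ∈ minimalPrimes A := (minimalPrimes.finite_of_isNoetherianRing A).mem_toFinset
  let C := M.filter fun I => ∃ p, p.asIdeal = I ∧ Relation.ReflTransGen Rel p' p
  let D := M.filter fun I => ¬ ∃ p, p.asIdeal = I ∧ Relation.ReflTransGen Rel p' p
  by_contra hn
  have hCmem : ∀ I ∈ C, I ∈ minimalPrimes A := fun I hI => hM.1 (Finset.mem_filter.1 hI).1
  have hDmem : ∀ I ∈ D, I ∈ minimalPrimes A := fun I hI => hM.1 (Finset.mem_filter.1 hI).1
  have hC0 : p'.asIdeal ∈ C := Finset.mem_filter.2 ⟨hM.2 hp', p', rfl, .refl⟩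
  have hD0 : p''.asIdeal ∈ D := Finset.mem_filter.2 ⟨hM.2 hp'', fun ⟨p, hp, hr⟩ => hn (PrimeSpectrum.ext hp ▸ hr)⟩
  have hCD : ∀ I ∈ minimalPrimes A, I ∈ C ∨ I ∈ D := fun I hI => by
    by_cases hr : ∃ p, p.asIdeal = I ∧ Relation.ReflTransGen Rel p' p
    · exact Or.inl (Finset.mem_filter.2 ⟨hM.2 hI, hr⟩)
    · exact Or.inr (Finset.mem_filter.2 ⟨hM.2 hI, hr⟩)
  let IC := C.inf id
  let ID := D.inf id
  have hcover : ∀ x : PrimeSpectrum A, IC ≤ x.asIdeal ∨ ID ≤ x.asIdeal := fun x => by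
    obtain ⟨I, hI, hIx⟩ := Ideal.exists_minimalPrimes_le (I := (⊥ : Ideal A)) (J := x.asIdeal) bot_le
    exact (hCD I hI).imp (fun h => (Finset.inf_le (f := id) h).trans hIx) fun h => (Finset.inf_le (f := id) h).trans hIx
  have hsep : ∀ {I}, I ∈ C → ¬ ID ≤ I := fun {I} hI hle => by
    haveI := (hCmem I hI).1.1
    obtain ⟨J, hJ, hJI⟩ := (Ideal.IsPrime.inf_le' (hCmem I hI).1.1).1 hle
    have : J = I := le_antisymm hJI ((hCmem I hI).2 (hDmem J hJ).1 hJI)
    exact (Finset.mem_filter.1 hJ).2 (this ▸ (Finset.mem_filter.1 hI).2)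
  have hsep' : ∀ {I}, I ∈ D → ¬ IC ≤ I := fun {I} hI hle => by
    haveI := (hDmem I hI).1.1
    obtain ⟨J, hJ, hJI⟩ := (Ideal.IsPrime.inf_le' (hDmem I hI).1.1).1 hle
    have : J = I := le_antisymm hJI ((hDmem I hI).2 (hCmem J hJ).1 hJI)
    exact (Finset.mem_filter.1 hI).2 (this ▸ (Finset.mem_filter.1 hJ).2)
  have hne : IC ⊔ ID ≠ ⊤ := by
    intro htop
    obtain ⟨x, -, hx, hx'⟩ := isPreconnected_closed_iff.1 (isPreconnected_univ (α := PrimeSpectrum A))
      (PrimeSpectrum.zeroLocus (IC : Set A)) (PrimeSpectrum.zeroLocus (ID : Set A))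
      (PrimeSpectrum.isClosed_zeroLocus _) (PrimeSpectrum.isClosed_zeroLocus _) (fun x _ => hcover x)
      ⟨p', trivial, Finset.inf_le (f := id) hC0⟩ ⟨p'', trivial, Finset.inf_le (f := id) hD0⟩
    exact x.2.ne_top (top_unique (htop ▸ sup_le hx hx'))
  obtain ⟨⟨r, hr⟩⟩ := Ideal.nonempty_minimalPrimes hne
  haveI := hr.1.1
  obtain ⟨a, haC, har⟩ := (Ideal.IsPrime.inf_le' hr.1.1).1 (le_sup_left.trans hr.1.2)
  obtain ⟨b, hbD, hbr⟩ := (Ideal.IsPrime.inf_le' hr.1.1).1 (le_sup_right.trans hr.1.2)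
  have hht : (d : ℕ∞) ≤ r.height := by
    by_contra hlt
    rw [not_le] at hlt
    obtain ⟨e, he⟩ := ENat.ne_top_iff_exists.1 (Ideal.height_ne_top (I := r) hr.1.1.ne_top)
    rw [← he, Nat.cast_lt] at hlt
    obtain ⟨p, hpa, hp⟩ := (Finset.mem_filter.1 haC).2
    refine (Finset.mem_filter.1 hbD).2 ⟨⟨b, (hDmem b hbD).1.1⟩, rfl, hp.tail ⟨hDmem b hbD, ⟨r, hr.1.1⟩, ?_, hbr, ?_⟩⟩
    · rw [← PrimeSpectrum.asIdeal_le_asIdeal, hpa]; exact har
    · show r.height ≤ _
      rw [← he, Nat.cast_le]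
      omega
  let R := Localization.AtPrime r
  let S : Set (PrimeSpectrum R) := {x | x.asIdeal ≠ maximalIdeal R}
  let f := PrimeSpectrum.comap (algebraMap A R)
  have hS : IsConnected S := LC.isConnected_punctured (h ⟨r, hr.1.1⟩ hht)
  have hmem : ∀ {I : Ideal A}, I ∈ minimalPrimes A → I ≤ r →
      ∃ x ∈ S, (f x).asIdeal = I := fun {I} hI hIr => by
    haveI := hI.1.1
    have hdisj : Disjoint (r.primeCompl : Set A) (I : Set A) := Set.disjoint_left.2 fun x hx hxI => hx (hIr hxI)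
    have hc := IsLocalization.under_map_of_isPrime_disjoint r.primeCompl R hI.1.1 hdisj
    refine ⟨⟨I.map (algebraMap A R), IsLocalization.isPrime_of_isPrime_disjoint r.primeCompl R I hI.1.1 hdisj⟩,
      fun hmax => ?_, hc⟩
    have : I = r := hc.symm.trans ((congrArg (Ideal.comap (algebraMap A R)) hmax).trans
      (Localization.AtPrime.under_maximalIdeal (I := r)))
    have h0 : I.height = 0 := Ideal.height_eq_zero_iff.2 hI
    rw [this] at h0
    rw [h0, nonpos_iff_eq_zero, Nat.cast_eq_zero] at hht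
    omega
  obtain ⟨xa, hxa, hxa'⟩ := hmem (hCmem a haC) har
  obtain ⟨xb, hxb, hxb'⟩ := hmem (hDmem b hbD) hbr
  obtain ⟨x, hxS, hx, hx'⟩ := isPreconnected_closed_iff.1 hS.2
    (f ⁻¹' PrimeSpectrum.zeroLocus (IC : Set A)) (f ⁻¹' PrimeSpectrum.zeroLocus (ID : Set A))
    ((PrimeSpectrum.isClosed_zeroLocus _).preimage (PrimeSpectrum.continuous_comap _))
    ((PrimeSpectrum.isClosed_zeroLocus _).preimage (PrimeSpectrum.continuous_comap _)) (fun x _ => hcover (f x))
    ⟨xa, hxa, show IC ≤ (f xa).asIdeal from hxa' ▸ Finset.inf_le (f := id) haC⟩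
    ⟨xb, hxb, show ID ≤ (f xb).asIdeal from hxb' ▸ Finset.inf_le (f := id) hbD⟩
  refine hxS (le_antisymm (le_maximalIdeal x.2.ne_top) ?_)
  rw [← Localization.AtPrime.map_eq_maximalIdeal, Ideal.map_le_iff_le_comap]
  have hxr : (f x).asIdeal ≤ r :=
    (Ideal.comap_mono (le_maximalIdeal x.2.ne_top)).trans Localization.AtPrime.under_maximalIdeal.le
  exact hr.2 ⟨(f x).2, sup_le hx hx'⟩ hxr

theorem exists_list [ConnectedSpace (PrimeSpectrum A)] (d : ℕ) (hd : 1 ≤ d)
    (h : ∀ p : PrimeSpectrum A, (d : ℕ∞) ≤ p.asIdeal.height →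
      (2 : ℕ∞) ≤ LocCoh.depth (Localization.AtPrime p.asIdeal) (Localization.AtPrime p.asIdeal))
    (p' p'' : PrimeSpectrum A) (hp' : p'.asIdeal ∈ minimalPrimes A) (hp'' : p''.asIdeal ∈ minimalPrimes A) :
    ∃ l : List (PrimeSpectrum A), l.head? = some p' ∧ l.getLast? = some p'' ∧
      (∀ p ∈ l, p.asIdeal ∈ minimalPrimes A) ∧ List.IsChain (Link A d) l := by
  have hR := exists_chain d hd h p' p'' hp' hp''
  induction hR using Relation.ReflTransGen.head_induction_on with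
  | refl => exact ⟨[p''], rfl, rfl, fun p hp => (List.mem_singleton.1 hp) ▸ hp'', .singleton _⟩
  | @head a c hac _ ih =>
    obtain ⟨l, h1, h2, h3, h4⟩ := ih hac.1
    cases l with
    | nil => simp at h1
    | cons x l =>
      obtain rfl : x = c := by simpa using h1
      exact ⟨a :: x :: l, rfl, by rw [List.getLast?_cons_cons]; exact h2, fun p hp => by
        rcases List.mem_cons.1 hp with rfl | hp
        · exact hp'
        · exact h3 p hp, .cons_cons hac.2 h4⟩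

variable [IsLocalRing A]

/-- A catenary local ring with (S₂) is equidimensional. -/
theorem dim_minimal_eq (hc : CAlg.IsCatenary A) (hS : LocCoh.HasSk 2 A A) {p q : Ideal A}
    (hp : p ∈ minimalPrimes A) (hq : q ∈ minimalPrimes A) : ringKrullDim (A ⧸ p) = ringKrullDim (A ⧸ q) := by
  haveI : ConnectedSpace (PrimeSpectrum A) := connectedSpace_iff_univ.2 ⟨⟨closedPoint A, trivial⟩,
    isPreconnected_closed_iff.2 fun u v hu hv _ ⟨x, _, hx⟩ ⟨y, _, hy⟩ =>
      ⟨closedPoint A, trivial, (specializes_closedPoint x).mem_closed hu hx, (specializes_closedPoint y).mem_closed hv hy⟩⟩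
  have hdepth : ∀ P : PrimeSpectrum A, ((2 : ℕ) : ℕ∞) ≤ P.asIdeal.height →
      (2 : ℕ∞) ≤ LocCoh.depth (Localization.AtPrime P.asIdeal) (Localization.AtPrime P.asIdeal) := fun P hP =>
    le_trans (le_min le_rfl hP) ((FlatLoc6.hasSk_self_iff 2).1 hS P.asIdeal)
  have hR := exists_chain 2 (by norm_num) hdepth ⟨p, hp.1.1⟩ ⟨q, hq.1.1⟩ hp hq
  have key : ∀ (P r : PrimeSpectrum A), P.asIdeal ∈ minimalPrimes A → P < r → r.asIdeal.height ≤ (1 : ℕ) →
      ringKrullDim (A ⧸ P.asIdeal) = ringKrullDim (A ⧸ r.asIdeal) + 1 := by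
    intro P r _ hlt hr
    refine FlatLoc6.ringKrullDim_quotient_covBy hc ⟨hlt, fun Q h1 h2 => ?_⟩
    haveI := Q.2
    have h3 := Ideal.height_strict_mono_of_isPrime (I := P.asIdeal) (J := Q.asIdeal) (show P.asIdeal < Q.asIdeal from h1)
    have h4 := Ideal.height_strict_mono_of_isPrime (I := Q.asIdeal) (J := r.asIdeal) (show Q.asIdeal < r.asIdeal from h2)
    have h5 : Q.asIdeal.height < 1 := h4.trans_le (by simpa using hr)
    rw [ENat.lt_one_iff_eq_zero] at h5
    rw [h5] at h3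
    exact not_lt_bot h3
  suffices H : ∀ {a b : PrimeSpectrum A}, Relation.ReflTransGen
      (fun p q => q.asIdeal ∈ minimalPrimes A ∧ Link A 2 p q) a b → a.asIdeal ∈ minimalPrimes A →
      b.asIdeal ∈ minimalPrimes A ∧ ringKrullDim (A ⧸ a.asIdeal) = ringKrullDim (A ⧸ b.asIdeal) from (H hR hp).2
  intro a b hab ha
  induction hab with
  | refl => exact ⟨ha, rfl⟩
  | @tail b c _ hbc ih =>
    obtain ⟨hb, hab⟩ := ih
    obtain ⟨hcm, r, hbr, hcr, hr⟩ := hbc
    refine ⟨hcm, hab.trans ?_⟩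
    rcases hbr.eq_or_lt with rfl | hbr'
    · have : c = b := PrimeSpectrum.ext (le_antisymm hcr (hb.2 hcm.1 hcr))
      rw [this]
    · rcases hcr.eq_or_lt with rfl | hcr'
      · have : b = c := PrimeSpectrum.ext (le_antisymm hbr (hcm.2 hb.1 hbr))
        rw [this]
      · rw [key b r hb hbr' hr, key c r hcm hcr' hr]

theorem dim_minimal (hc : CAlg.IsCatenary A) (hS : LocCoh.HasSk 2 A A) {p : Ideal A}
    (hp : p ∈ minimalPrimes A) : ringKrullDim (A ⧸ p) = ringKrullDim A := by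
  refine le_antisymm (ringKrullDim_quotient_le p) ?_
  refine iSup_le fun l => ?_
  obtain ⟨q, hq, hql⟩ := Ideal.exists_minimalPrimes_le (I := (⊥ : Ideal A)) (J := l.head.asIdeal) bot_le
  rw [dim_minimal_eq hc hS hp hq, ringKrullDim_quotient]
  let l' : LTSeries (PrimeSpectrum.zeroLocus (q : Set A)) :=
    ⟨l.length, fun i => ⟨l i, hql.trans (l.monotone (Fin.zero_le i))⟩, fun i => l.step i⟩
  exact le_iSup_of_le l' le_rfl

end Groth.Agent.GrLib8.Hartshorne
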